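import Cfsg.Agent.Lib.CO.Defs
import Cfsg.Agent.Lib.Sig.ZNLoc

/-!
# Operator groups without invariant classes of involutions: definitions

See `notes/gf_plan.md`.  `Om, Pt, Bad, KK, BB, WB, MaxW, EE, VL, FFc, VxD, Vx, LC, IB, Ind, WC`
are those of `CO/Defs`.
-/

set_option autoImplicit false

namespace CfsgLib.GF

open Subgroup Cfsg CfsgLib.FT CfsgLib.FT.BGN CfsgLib.GW CfsgLib.Wal
open CfsgLib.CO (Om Pt Bad KK BB WB MaxW EE VL FFc VxD Vx LC IB Ind WC)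
open scoped commutatorElement

variable {X : Type*} [Group X]

/-- `H` is invariant under the operator group `A`. -/
def Iv (A : Subgroup (MulAut X)) (H : Subgroup X) : Prop := ∀ α ∈ A, ∀ x ∈ H, α x ∈ H

/-- No class of involutions of an `A`-invariant section is `A`-invariant. -/
def NC (A : Subgroup (MulAut X)) : Prop :=
  ∀ H N : Subgroup X, Iv A H → Iv A N → N ≤ H → H ≤ 𝐍(N) → ∀ e ∈ H, e * e ∈ N →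
    (∀ α ∈ A, ∃ h ∈ H, (h * e * h⁻¹)⁻¹ * α e ∈ N) → e ∈ N

/-- The minimal counterexample. -/
structure GF0 (A : Subgroup (MulAut X)) : Prop where
  simple : IsSimpleGroup X
  nonab : ¬ IsMulCommutative X
  sol : ∀ H : Subgroup X, H ≠ ⊤ → Iv A H → Group.IsSolvable H
  nc : NC A
  syl : ∃ T : Subgroup X, IsSylowIn 2 T ⊤ ∧ Iv A T

/-- `B` acts quadratically on `Y`. -/
def Qd (Y B : Subgroup X) : Prop := ∀ v ∈ Y, ∀ b ∈ B, ∀ b' ∈ B, ⁅⁅v, b⁆, b'⁆ = 1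

/-- `K` centralizes `Y0` and is transitive on `(Y / Y0)#`. -/
structure TR (Y Y0 K : Subgroup X) : Prop where
  le : Y0 ≤ Y
  cent : K ≤ 𝐂(Y0)
  big : 2 < Y0.relIndex Y
  tr : ∀ y ∈ Y, y ∉ Y0 → ∀ y' ∈ Y, y' ∉ Y0 → ∃ k ∈ K, (k * y * k⁻¹)⁻¹ * y' ∈ Y0

/-- Properties of the action of `M` on `Y`. -/
structure MP (M Y : Subgroup X) : Prop where
  noTR : ∀ Y0 K : Subgroup X, K ≤ M → ¬ TR Y Y0 K
  ns : ∀ g ∈ M, g * g ∈ 𝐂(Y) → (𝐂[g]).relIndex Y ≤ 4 → g ∈ 𝐂(Y)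
  noFF : ∀ B : Subgroup X, B ≤ M → (∀ b ∈ B, b * b ∈ 𝐂(Y)) →
    (𝐂(B)).relIndex Y ≤ (𝐂(Y)).relIndex B → B ≤ 𝐂(Y)
  qn : ∀ B : Subgroup X, B ≤ M → Qd Y B →
    (𝐂(B)).relIndex Y ≤ 2 * (𝐂(Y)).relIndex B → B ≤ 𝐂(Y)
  qi : ∀ R : Subgroup X, R ≤ M → Qd Y R → ∀ r ∈ R, ∀ r' ∈ R,
    ⁅Y, zpowers r⁆ = ⁅Y, zpowers r'⁆ → r⁻¹ * r' ∈ 𝐂(Y)
  cub : ∀ B I V1 : Subgroup X, B ≤ M → (∀ b ∈ B, b * b ∈ 𝐂(Y)) → I ≤ V1 → V1 < Y → I ≤ 𝐂(B) →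
    (∀ b ∈ B, b ∉ 𝐂(Y) → ∀ v ∈ Y, (⁅v, b⁆ ∈ I ↔ v ∈ V1)) →
    I.relIndex V1 ≤ (𝐂(Y)).relIndex B → B ≤ 𝐂(Y)

/-- The faithful model of the action of `N(Y)` on `Y`, with the operators `Λ`. -/
structure Md (V L F Λ : Subgroup X) : Prop extends Sig.Fa V L F where
  LΛ : L ≤ Λ
  lV : Λ ≤ 𝐍(V)
  lL : Λ ≤ 𝐍(L)
  lF : Λ ≤ 𝐍(F)
  nc1 : ∀ y ∈ V, (∀ s ∈ Λ, ∃ l ∈ L, s * y * s⁻¹ = l * y * l⁻¹) → y = 1
  nc2 : ∀ e ∈ L, e * e = 1 → (∀ s ∈ Λ, ∃ l ∈ L, s * e * s⁻¹ = l * e * l⁻¹) → e = 1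

/-- The `2`-subgroup `T` (`Q` in the notes) replacing the Sylow subgroup of `CO`; `Y = Om T`. -/
structure YS (T : Subgroup X) : Prop where
  syl : IsSylowIn 2 T 𝐂(Om T)
  ne : Om T ≠ ⊥
  big : ∃ S : Subgroup X, IsSylowIn 2 S ⊤ ∧ S ≤ 𝐍(Om T)
  b4 : (∃ D, Bad T D) → 𝐍(WB T T) ≤ 𝐍(Om T)
  mp : MP 𝐍(Om T) (Om T)

theorem YS.isPGroup {T : Subgroup X} (h : YS T) : IsPGroup 2 T := h.syl.isPGroup

/-- Output of `B1a`, input of `B1c`. -/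
structure Seed (T W P A Y0 : Subgroup X) (u z0 d : X) : Prop extends CO.Seed T W P A u z0 d where
  sup : Y0 ⊔ zpowers z0 = Om T
  PY : P ≤ 𝐂(Om T)
  dY : d ∈ 𝐂(Y0)

/-- (R3) for automorphisms normalizing `T`. -/
def IndA (T : Subgroup X) (u : X) : Prop :=
  ∃ e : X, e ∉ 𝐂[u] ∧ ∀ σ : MulAut X, T.map σ.toMonoidHom = T → σ u ≠ u →
    WB T (T ⊓ 𝐂[σ u]) = WB T (T ⊓ 𝐂[u]) → e ∈ 𝐂[σ u]

theorem IndA.ind [Finite X] {T : Subgroup X} {u : X} (h : IndA T u) : Ind T u := by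
  obtain ⟨e, h1, h2⟩ := h
  exact ⟨e, h1, fun s hs => h2 (MulAut.conj s) (CfsgLib.map_conj_eq_of_mem_normalizer hs)⟩

/-- No point normalizes another point. -/
def NN (Y : Subgroup X) : Prop := ∀ g : X, g •ᶜ Y ≤ 𝐍(Y) → g •ᶜ Y = Y

/-- Hypotheses of the weakly closed case. -/
structure WK (Y : Subgroup X) : Prop where
  el : El Y
  big : ∃ S : Subgroup X, IsSylowIn 2 S ⊤ ∧ S ≤ 𝐍(Y)
  nn : NN Y
  mp : MP 𝐍(Y) Y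

/-- `C(Y0) = O(C(Y0)) N_{C(Y0)}(Y)`. -/
def Good (Y Y0 : Subgroup X) : Prop := 𝐂(Y0) ≤ Od 𝐂(Y0) ⊔ (𝐂(Y0) ⊓ 𝐍(Y))

end CfsgLib.GF
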